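import Groth.Agent.Refuted.K899.Cech
import Mathlib.RingTheory.Localization.Away.Basic

/-!
# T5, T6: the second restriction maps and the two Cech computations
-/

set_option linter.unusedSimpArgs false

namespace Groth.Agent.Refuted.K899

open TrivSqZeroExt
open Groth.Agent.Refuted.K826 (P T x₀ x₁ e₁ e₂ phi1 phi2 psi1 psi2)

universe u

variable (k : Type u) [Field k]

/-- The overlap ring `T[1/t]`. -/
abbrev TL : Type u := Localization.Away (x₁ : T k)

variable {k}

theorem isUnit_inl {Q : Type*} [CommRing Q] {q : Q} (h : IsUnit q) : IsUnit (inl q : TrivSqZeroExt Q (Q × Q)) :=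
  h.map (inlHom Q (Q × Q))

theorem kap1_x1 : kap1 k (inl (MvPolynomial.X 1)) = inl (mon (-1) 1) := by rw [kap1, tz_inl, cm_X1']
theorem kap1''_x1 : kap1'' k (inl (MvPolynomial.X 1)) = inl (mon (-1) 1) := by rw [kap1'', tz_inl, cm_X1']
theorem kap1_x0 : kap1 k (inl (MvPolynomial.X 0)) = inl (mon 1 0) := by rw [kap1, tz_inl, cm_X0']
theorem kap1''_x0 : kap1'' k (inl (MvPolynomial.X 0)) = inl (mon 1 0) := by rw [kap1'', tz_inl, cm_X0']
theorem kap2_x0 : kap2 k (inl (MvPolynomial.X 0)) = inl (mon 0 1) := by rw [kap2, tz_inl, cm_X0']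
theorem kap2''_x0 : kap2'' k (inl (MvPolynomial.X 0)) = inl (mon 0 1) := by rw [kap2'', tz_inl, cm_X0']

variable (k) in
/-- the overlap of `X` → torus -/
noncomputable def kapL : TL k →+* TrivSqZeroExt (L k) (L k × L k) :=
  IsLocalization.Away.lift (S := TL k) (x₁ : T k) (g := kap1 k) (by rw [kap1_x1]; exact isUnit_inl (isUnit_mon _ _))

variable (k) in
/-- the overlap of `X''` → torus -/
noncomputable def kapL'' : TL k →+* TrivSqZeroExt (L k) (L k × L k) :=
  IsLocalization.Away.lift (S := TL k) (x₁ : T k) (g := kap1'' k) (by rw [kap1''_x1]; exact isUnit_inl (isUnit_mon _ _))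

theorem kapL_algebraMap (z : T k) : kapL k (algebraMap (T k) (TL k) z) = kap1 k z :=
  IsLocalization.Away.lift_eq _ _ _

theorem kapL''_algebraMap (z : T k) : kapL'' k (algebraMap (T k) (TL k) z) = kap1'' k z :=
  IsLocalization.Away.lift_eq _ _ _

theorem kapL_r (r : T k →+* TL k) (hr : r.comp phi2 = (algebraMap (T k) (TL k)).comp phi1) (z : T k) :
    kapL k (r z) = kap2 k z := by
  have key : ((kapL k).comp r) = kap2 k := by
    apply eq_of_comp_phi2
    · rw [RingHom.comp_assoc, hr, kap2_phi2, ← kap1_phi1]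
      ext z : 1
      exact kapL_algebraMap _
    · have e : (kapL k).comp r (inl (MvPolynomial.X 0)) = kap0 k (inl (MvPolynomial.X 1)) := by
        have := RingHom.congr_fun hr (inl (MvPolynomial.X 1))
        rw [RingHom.comp_apply, RingHom.comp_apply, phi2_1] at this
        rw [RingHom.comp_apply, this, kapL_algebraMap, ← RingHom.comp_apply, kap1_phi1]
      rw [e, kap0, tz_inl, cm_X1']
      exact (isUnit_inl (isUnit_mon _ _)).isRegular
  exact RingHom.congr_fun key z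

theorem kapL''_r (r : T k →+* TL k) (hr : r.comp psi2 = (algebraMap (T k) (TL k)).comp psi1) (z : T k) :
    kapL'' k (r z) = kap2'' k z := by
  have key : ((kapL'' k).comp r) = kap2'' k := by
    apply eq_of_comp_psi2
    · rw [RingHom.comp_assoc, hr, kap2''_psi2, ← kap1''_psi1]
      ext z : 1
      exact kapL''_algebraMap _
    · have e : (kapL'' k).comp r (inl (MvPolynomial.X 0)) = kap0 k (inl (MvPolynomial.X 1)) := by
        have := RingHom.congr_fun hr (inl (MvPolynomial.X 1))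
        rw [RingHom.comp_apply, RingHom.comp_apply, psi2_1] at this
        rw [RingHom.comp_apply, this, kapL''_algebraMap, ← RingHom.comp_apply, kap1''_psi1]
      rw [e, kap0, tz_inl, cm_X1']
      exact (isUnit_inl (isUnit_mon _ _)).isRegular
  exact RingHom.congr_fun key z

/-- T6 (X): `α / t` is not a sum of elements of the two charts. -/
theorem cech_X (r : T k →+* TL k) (hr : r.comp phi2 = (algebraMap (T k) (TL k)).comp phi1) :
    ∃ c : TL k, ∀ c₁ c₂, c ≠ algebraMap (T k) (TL k) c₁ + r c₂ := by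
  refine ⟨algebraMap (T k) (TL k) e₁ * IsLocalization.Away.invSelf (x₁ : T k), fun a b hab => ?_⟩
  have hk := congrArg (kapL k) hab
  rw [map_add, kapL_algebraMap, kapL_r r hr, map_mul, kapL_algebraMap] at hk
  have hinv : kapL k (IsLocalization.Away.invSelf (x₁ : T k)) = inl (mon 1 (-1)) := by
    have h1 : kapL k (algebraMap (T k) (TL k) x₁ * IsLocalization.Away.invSelf (x₁ : T k)) = 1 := by
      rw [IsLocalization.Away.mul_invSelf (S := TL k), map_one]
    rw [map_mul, kapL_algebraMap, kap1_x1] at h1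
    have h2 : (inl (mon (-1) 1) : TrivSqZeroExt (L k) (L k × L k)) * inl (mon 1 (-1)) = 1 := by
      rw [← inl_mul, mon_mul]; norm_num [mon_zero]
    exact (isUnit_inl (isUnit_mon (-1) 1)).mul_left_cancel (h1.trans h2.symm)
  rw [hinv, kap1, kap2, tz_inr] at hk
  have h3 := congrArg (fun z => z.snd.1.coeff ((0 : ℤ), (-1 : ℤ))) hk
  simp only [snd_add, tz_snd1, Prod.fst_add, snd_mul, snd_inr, fst_inr, fst_inl, snd_inl, smul_zero, zero_smul,
    Prod.smul_fst, Prod.fst_zero, MulOpposite.smul_eq_mul_unop, MulOpposite.unop_op, map_one, map_zero, one_mul, zero_mul,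
    add_zero, zero_add, mul_zero, mul_one, AddMonoidAlgebra.coeff_add, Finsupp.add_apply] at h3
  rw [mon_mul, mul_comm _ (mon (-1) 0), mul_comm _ (mon 1 (-2)), coeff_mon_mul, coeff_mon_mul] at h3
  have z1 : ((cm (1, 0) (-1, 1)).toRingHom a.snd.1 : L k).coeff ((0 : ℤ) - -1, (-1 : ℤ) - 0) = 0 :=
    coeff_cm_eq_zero _ (by rw [range_gm1]; norm_num)
  have z2 : ((cm (0, 1) (1, -1)).toRingHom b.snd.1 : L k).coeff ((0 : ℤ) - 1, (-1 : ℤ) - -2) = 0 :=
    coeff_cm_eq_zero _ (by rw [range_gm2]; norm_num)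
  have z3 : ((cm (0, 1) (1, -1)).toRingHom b.snd.2 : L k).coeff ((0 : ℤ), (-1 : ℤ)) = 0 :=
    coeff_cm_eq_zero _ (by rw [range_gm2]; norm_num)
  rw [z1, z2, z3] at h3
  norm_num [mon] at h3

/-! ### T5 -/

section Aux

variable {S : Type*} [CommRing S]

theorem aux1 {e i : S} (h : e * e = 0) : (e * i ^ 2) * (e * i ^ 2) = 0 := by linear_combination i ^ 4 * h
theorem aux2 {e f i : S} (h : e * f = 0) : (e * i ^ 2) * f = 0 := by linear_combination i ^ 2 * h
theorem aux3 {e f i : S} (h : e * f = 0) : (e * i) * (f * i) = 0 := by linear_combination i ^ 2 * h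
theorem aux4 {x t i : S} (h : t * i = 1) : x * t * i = x := by linear_combination x * h
theorem aux5 {x t i e f : S} (h : t * i = 1) : x * t * (e * i ^ 2) + -i * (x * e + -t * f) = f := by
  linear_combination (x * e * i + f) * h
theorem aux6 {x t i e : S} (h : t * i = 1) : x * t * (e * i) = x * e := by linear_combination (x * e) * h

end Aux

section Gen

variable {C : Type*} [CommRing C] (a : T k →+* C) (i : C)

/-- `k[X0, X1] → T[1/t]`, `X0 ↦ x t`, `X1 ↦ 1/t` -/
noncomputable def gg : P k →+* C :=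
  MvPolynomial.eval₂Hom (a.comp ((inlHom (P k) (P k × P k)).comp MvPolynomial.C))
    ![a (inl (MvPolynomial.X 0 * MvPolynomial.X 1)), i]

theorem gg_C (c : k) : gg a i (MvPolynomial.C c) = a (inl (MvPolynomial.C c)) := by
  simp [gg]
theorem gg_X0 : gg a i (MvPolynomial.X 0) = a (inl (MvPolynomial.X 0 * MvPolynomial.X 1)) := by
  simp [gg]
theorem gg_X1 : gg a i (MvPolynomial.X 1) = i := by
  simp [gg]

theorem exists_r_gen (hi : a x₁ * i = 1) : ∃ r : T k →+* C, r.comp phi2 = a.comp phi1 := by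
  have ee : ∀ u v : P k × P k, a (inr u) * a (inr v) = 0 := by
    intro u v; rw [← map_mul, inr_mul_inr, map_zero]
  refine ⟨ev (gg a i) (a (inr (1, 0)) * i ^ 2) (a (inr (MvPolynomial.X 0, -MvPolynomial.X 1)))
    (aux1 (ee _ _)) (aux2 (ee _ _)) (ee _ _), ?_⟩
  apply T_hom_ext
  · intro c; rw [RingHom.comp_apply, RingHom.comp_apply, phi2_C, phi1_C, ev_inl, gg_C]
  · rw [RingHom.comp_apply, RingHom.comp_apply, phi2_0, phi1_0, ev_inl, map_mul, gg_X0, gg_X1, inl_mul, map_mul]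
    exact aux4 hi
  · rw [RingHom.comp_apply, RingHom.comp_apply, phi2_1, phi1_1, ev_inl, gg_X0]
  · rw [RingHom.comp_apply, RingHom.comp_apply, phi2_a, phi1_a, ev_inr, map_zero, map_one]; ring
  · rw [RingHom.comp_apply, RingHom.comp_apply, phi2_b, phi1_b, ev_inr, map_neg, gg_X0, gg_X1,
      inr_eq (MvPolynomial.X 0) (-MvPolynomial.X 1), inl_neg, inl_mul, map_mul, map_add, map_mul, map_mul, map_neg]
    exact aux5 hi

theorem exists_r_gen'' (hi : a x₁ * i = 1) : ∃ r : T k →+* C, r.comp psi2 = a.comp psi1 := by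
  have ee : ∀ u v : P k × P k, a (inr u) * a (inr v) = 0 := by
    intro u v; rw [← map_mul, inr_mul_inr, map_zero]
  refine ⟨ev (gg a i) (a (inr (0, 1)) * i) (a (inr (1, 0)) * i) (aux3 (ee _ _)) (aux3 (ee _ _)) (aux3 (ee _ _)), ?_⟩
  apply T_hom_ext
  · intro c; rw [RingHom.comp_apply, RingHom.comp_apply, psi2_C, psi1_C, ev_inl, gg_C]
  · rw [RingHom.comp_apply, RingHom.comp_apply, psi2_0, psi1_0, ev_inl, map_mul, gg_X0, gg_X1, inl_mul, map_mul]
    exact aux4 hi
  · rw [RingHom.comp_apply, RingHom.comp_apply, psi2_1, psi1_1, ev_inl, gg_X0]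
  · rw [RingHom.comp_apply, RingHom.comp_apply, psi2_a, psi1_a, ev_inr, map_zero, gg_X0,
      inr_eq (MvPolynomial.X 0) 0, inl_zero, zero_mul, zero_mul, zero_add, add_zero, inl_mul, map_mul, map_mul]
    exact aux6 hi
  · rw [RingHom.comp_apply, RingHom.comp_apply, psi2_b, psi1_b, ev_inr, map_zero, gg_X0,
      inr_eq 0 (MvPolynomial.X 0), inl_zero, zero_mul, zero_mul, zero_add, add_zero, inl_mul, map_mul, map_mul]
    exact aux6 hi

end Gen

theorem exists_r : ∃ r : T k →+* TL k, r.comp phi2 = (algebraMap (T k) (TL k)).comp phi1 :=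
  exists_r_gen (C := TL k) (algebraMap (T k) (TL k)) (IsLocalization.Away.invSelf (S := TL k) (x₁ : T k))
    (IsLocalization.Away.mul_invSelf (S := TL k) _)

theorem exists_r'' : ∃ r : T k →+* TL k, r.comp psi2 = (algebraMap (T k) (TL k)).comp psi1 :=
  exists_r_gen'' (C := TL k) (algebraMap (T k) (TL k)) (IsLocalization.Away.invSelf (S := TL k) (x₁ : T k))
    (IsLocalization.Away.mul_invSelf (S := TL k) _)

theorem isLocalization_sq : IsLocalization.Away ((x₁ : T k) ^ 2) (TL k) := by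
  rw [pow_two]
  exact IsLocalization.Away.mul_of_isUnit (S := TL k) (x₁ : T k) x₁ (IsLocalization.Away.algebraMap_isUnit (S := TL k) _)

/-! ### T6 for `X''` -/

theorem mul_mon_cancel {a b : ℤ} {z w : L k} (h : z * mon a b = w * mon a b) : z = w :=
  (isUnit_mon a b).mul_right_cancel h

theorem kap1''_injective : Function.Injective (kap1'' k) := by
  intro z w h
  have h0 := congrArg (fun z => z.fst) h
  have h1 := congrArg (fun z => z.snd.1) h
  have h2 := congrArg (fun z => z.snd.2) h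
  simp only [kap1'', tz_fst, tz_snd1, tz_snd2, mul_zero, add_zero, zero_add] at h0 h1 h2
  have hinj := cm_injective (k := k) (u := (1, 0)) (v := (-1, 1)) (by norm_num)
  exact TrivSqZeroExt.ext (hinj h0) (Prod.ext (hinj (mul_mon_cancel h1)) (hinj (mul_mon_cancel h2)))

theorem kap2''_injective : Function.Injective (kap2'' k) := by
  intro z w h
  have h0 := congrArg (fun z => z.fst) h
  have h1 := congrArg (fun z => z.snd.1) h
  have h2 := congrArg (fun z => z.snd.2) h
  simp only [kap2'', tz_fst, tz_snd1, tz_snd2, mul_zero, add_zero, zero_add] at h0 h1 h2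
  have hinj := cm_injective (k := k) (u := (0, 1)) (v := (1, -1)) (by norm_num)
  exact TrivSqZeroExt.ext (hinj h0) (Prod.ext (hinj (mul_mon_cancel h2)) (hinj (mul_mon_cancel h1)))

theorem mon_pow (a b : ℤ) (n : ℕ) : (mon (k := k) a b) ^ n = mon (n * a) (n * b) := by
  induction n with
  | zero => simp [mon_zero]
  | succ n ih => rw [pow_succ, ih, mon_mul]; congr 1 <;> push_cast <;> ring

/-- every element of the overlap, seen in the torus, times a power of `t` comes from the first chart -/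
theorem exists_kapL'' (c : TL k) : ∃ (n : ℕ) (z : T k), algebraMap (T k) (TL k) z = c * algebraMap (T k) (TL k) (x₁ ^ n) ∧
    kapL'' k c = kap1'' k z * inl (mon n (-n)) := by
  obtain ⟨n, z, hz⟩ := IsLocalization.Away.surj (x₁ : T k) c
  refine ⟨n, z, by rw [map_pow]; exact hz.symm, ?_⟩
  have h := congrArg (kapL'' k) hz
  rw [map_mul, map_pow, kapL''_algebraMap, kapL''_algebraMap, kap1''_x1] at h
  have e : (inl (mon (-1) 1) : TrivSqZeroExt (L k) (L k × L k)) ^ n = inl (mon (-n) n) := by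
    have := (map_pow (inlHom (L k) (L k × L k)) (mon (-1) 1) n).symm
    rw [mon_pow] at this
    simpa using this
  rw [e] at h
  rw [← h, mul_assoc, ← inl_mul, mon_mul]
  norm_num [mon_zero]

theorem kapL''_injective : Function.Injective (kapL'' k) := by
  rw [injective_iff_map_eq_zero]
  intro c hc
  obtain ⟨n, z, hz, hk⟩ := exists_kapL'' c
  rw [hc] at hk
  have hz0 : z = 0 := by
    apply kap1''_injective
    rw [map_zero]
    have hu : IsUnit (inl (mon n (-n)) : TrivSqZeroExt (L k) (L k × L k)) := isUnit_inl (isUnit_mon _ _)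
    exact (hu.mul_left_eq_zero).mp hk.symm
  rw [hz0, map_zero] at hz
  have hu : IsUnit (algebraMap (T k) (TL k) (x₁ ^ n)) := by
    rw [map_pow]; exact (IsLocalization.Away.algebraMap_isUnit (S := TL k) (x₁ : T k)).pow n
  exact (hu.mul_left_eq_zero).mp hz.symm

theorem fst_kapL'' (c : TL k) (m : ℤ × ℤ) (hm : (kapL'' k c).fst.coeff m ≠ 0) : 0 ≤ m.1 + m.2 := by
  obtain ⟨n, z, -, hk⟩ := exists_kapL'' c
  obtain ⟨a, b⟩ := m
  rw [hk, fst_mul, fst_inl, mul_comm, coeff_mon_mul, kap1'', tz_fst] at hm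
  by_contra hlt
  refine hm (coeff_cm_eq_zero _ ?_)
  rw [range_gm1]
  simp only at hlt ⊢
  omega

theorem snd1_kapL'' (c : TL k) (m : ℤ × ℤ) (hm : (kapL'' k c).snd.1.coeff m ≠ 0) : -1 ≤ m.1 + m.2 := by
  obtain ⟨n, z, -, hk⟩ := exists_kapL'' c
  obtain ⟨a, b⟩ := m
  have e : (kapL'' k c).snd.1 = mon n (-n) * (mon (-1) 0 * (cm (1, 0) (-1, 1)).toRingHom z.snd.1) := by
    rw [hk, snd_mul, snd_inl, smul_zero, zero_add, fst_inl, Prod.smul_fst, kap1'', tz_snd1]
    simp only [MulOpposite.smul_eq_mul_unop, MulOpposite.unop_op, mul_zero, add_zero]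
    ring
  rw [e, coeff_mon_mul, coeff_mon_mul] at hm
  by_contra hlt
  refine hm (coeff_cm_eq_zero _ ?_)
  rw [range_gm1]
  simp only at hlt ⊢
  omega

theorem snd2_kapL'' (c : TL k) (m : ℤ × ℤ) (hm : (kapL'' k c).snd.2.coeff m ≠ 0) : -1 ≤ m.1 + m.2 := by
  obtain ⟨n, z, -, hk⟩ := exists_kapL'' c
  obtain ⟨a, b⟩ := m
  have e : (kapL'' k c).snd.2 = mon n (-n) * (mon (-1) 0 * (cm (1, 0) (-1, 1)).toRingHom z.snd.2) := by
    rw [hk, snd_mul, snd_inl, smul_zero, zero_add, fst_inl, Prod.smul_snd, kap1'', tz_snd2]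
    simp only [MulOpposite.smul_eq_mul_unop, MulOpposite.unop_op, mul_zero, zero_add]
    ring
  rw [e, coeff_mon_mul, coeff_mon_mul] at hm
  by_contra hlt
  refine hm (coeff_cm_eq_zero _ ?_)
  rw [range_gm1]
  simp only at hlt ⊢
  omega

theorem split (w : L k) (s : ℤ) (hw : ∀ m, w.coeff m ≠ 0 → s ≤ m.1 + m.2) : ∃ w₁ w₂ : L k, w = w₁ + w₂ ∧
    (∀ m, w₁.coeff m ≠ 0 → 0 ≤ m.2 ∧ s ≤ m.1 + m.2) ∧ (∀ m, w₂.coeff m ≠ 0 → m.2 < 0 ∧ s ≤ m.1 + m.2) := by
  refine ⟨.ofCoeff (w.coeff.filter (fun m => 0 ≤ m.2)), .ofCoeff (w.coeff.filter (fun m => ¬ 0 ≤ m.2)), ?_, ?_, ?_⟩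
  · apply AddMonoidAlgebra.coeff_injective
    rw [AddMonoidAlgebra.coeff_add]
    exact (Finsupp.filter_add_filter_not _ _).symm
  · intro m hm
    change (w.coeff.filter (fun m => 0 ≤ m.2)) m ≠ 0 at hm
    rw [Finsupp.filter_apply] at hm
    split_ifs at hm with h
    · exact ⟨h, hw m hm⟩
    · exact absurd rfl hm
  · intro m hm
    change (w.coeff.filter (fun m => ¬ 0 ≤ m.2)) m ≠ 0 at hm
    rw [Finsupp.filter_apply] at hm
    by_cases h : 0 ≤ m.2
    · rw [if_neg (not_not.mpr h)] at hm; exact absurd rfl hm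
    · rw [if_pos h] at hm; exact ⟨not_le.mp h, hw m hm⟩

theorem split0 (w : L k) (hw : ∀ m, w.coeff m ≠ 0 → 0 ≤ m.1 + m.2) : ∃ p q : P k,
    w = (cm (1, 0) (-1, 1)).toRingHom p + (cm (0, 1) (1, -1)).toRingHom q := by
  obtain ⟨w₁, w₂, h, h1, h2⟩ := split w 0 hw
  obtain ⟨p, hp⟩ := exists_cm_eq (u := (1, 0)) (v := (-1, 1)) (by norm_num) w₁
    (fun m hm => (range_gm1 m).mpr (h1 m hm))
  obtain ⟨q, hq⟩ := exists_cm_eq (u := (0, 1)) (v := (1, -1)) (by norm_num) w₂
    (fun m hm => (range_gm2 m).mpr (by have := h2 m hm; omega))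
  exact ⟨p, q, by rw [h, ← hp, ← hq]; rfl⟩

theorem split1 (w : L k) (hw : ∀ m, w.coeff m ≠ 0 → -1 ≤ m.1 + m.2) : ∃ p q : P k,
    w = (cm (1, 0) (-1, 1)).toRingHom p * mon (-1) 0 + (cm (0, 1) (1, -1)).toRingHom q * mon 0 (-1) := by
  obtain ⟨w₁, w₂, h, h1, h2⟩ := split w (-1) hw
  obtain ⟨p, hp⟩ := exists_cm_eq (u := (1, 0)) (v := (-1, 1)) (by norm_num) (mon 1 0 * w₁) (fun m hm => by
    obtain ⟨a, b⟩ := m
    rw [coeff_mon_mul] at hm
    have := h1 _ hm
    rw [range_gm1]; simp only at this ⊢; omega)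
  obtain ⟨q, hq⟩ := exists_cm_eq (u := (0, 1)) (v := (1, -1)) (by norm_num) (mon 0 1 * w₂) (fun m hm => by
    obtain ⟨a, b⟩ := m
    rw [coeff_mon_mul] at hm
    have := h2 _ hm
    rw [range_gm2]; simp only at this ⊢; omega)
  refine ⟨p, q, ?_⟩
  have e1 : (cm (1, 0) (-1, 1)).toRingHom p * mon (-1) 0 = w₁ := by
    change cm (1, 0) (-1, 1) p * mon (-1) 0 = w₁
    rw [hp, mul_right_comm, mon_mul]; norm_num [mon_zero]
  have e2 : (cm (0, 1) (1, -1)).toRingHom q * mon 0 (-1) = w₂ := by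
    change cm (0, 1) (1, -1) q * mon 0 (-1) = w₂
    rw [hq, mul_right_comm, mon_mul]; norm_num [mon_zero]
  rw [e1, e2, h]

theorem cech_X''_surj (r : T k →+* TL k) (hr : r.comp psi2 = (algebraMap (T k) (TL k)).comp psi1) (c : TL k) :
    ∃ c₁ c₂, c = algebraMap (T k) (TL k) c₁ + r c₂ := by
  obtain ⟨p, q, h0⟩ := split0 (kapL'' k c).fst (fst_kapL'' c)
  obtain ⟨p1, q1, h1⟩ := split1 (kapL'' k c).snd.1 (snd1_kapL'' c)
  obtain ⟨p2, q2, h2⟩ := split1 (kapL'' k c).snd.2 (snd2_kapL'' c)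
  refine ⟨inl p + inr (p1, p2), inl q + inr (q2, q1), ?_⟩
  apply kapL''_injective
  rw [map_add, kapL''_algebraMap, kapL''_r r hr]
  refine TrivSqZeroExt.ext ?_ (Prod.ext ?_ ?_)
  · rw [h0, fst_add, kap1'', kap2'', tz_fst, tz_fst]; simp
  · rw [h1, snd_add, Prod.fst_add, kap1'', kap2'', tz_snd1, tz_snd1]; simp
  · rw [h2, snd_add, Prod.snd_add, kap1'', kap2'', tz_snd2, tz_snd2]; simp

theorem glue0 {p q : P k} (h : (cm (1, 0) (-1, 1)).toRingHom p = (cm (0, 1) (1, -1)).toRingHom q) :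
    ∃ a : P k, (cm (1, 0) (0, 1)).toRingHom a = (cm (1, 0) (-1, 1)).toRingHom p := by
  obtain ⟨a, ha⟩ := exists_cm_eq (u := (1, 0)) (v := (0, 1)) (by norm_num) ((cm (1, 0) (-1, 1)).toRingHom p)
    (fun m hm => by
      rw [range_gm0]
      constructor
      · by_contra hlt
        rw [h] at hm
        exact hm (coeff_cm_eq_zero _ (by rw [range_gm2]; omega))
      · by_contra hlt
        exact hm (coeff_cm_eq_zero _ (by rw [range_gm1]; omega)))
  exact ⟨a, ha⟩

theorem glue1 {p q : P k} (h : (cm (1, 0) (-1, 1)).toRingHom p * mon (-1) 0 =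
      (cm (0, 1) (1, -1)).toRingHom q * mon 0 (-1)) :
    ∃ a : P k, (cm (1, 0) (0, 1)).toRingHom a = (cm (1, 0) (-1, 1)).toRingHom p * mon (-1) 0 := by
  obtain ⟨a, ha⟩ := exists_cm_eq (u := (1, 0)) (v := (0, 1)) (by norm_num)
    ((cm (1, 0) (-1, 1)).toRingHom p * mon (-1) 0)
    (fun m hm => by
      obtain ⟨a, b⟩ := m
      rw [range_gm0]
      constructor
      · by_contra hlt
        rw [h, mul_comm, coeff_mon_mul] at hm
        exact hm (coeff_cm_eq_zero _ (by rw [range_gm2]; simp only at hlt ⊢; omega))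
      · by_contra hlt
        rw [mul_comm, coeff_mon_mul] at hm
        exact hm (coeff_cm_eq_zero _ (by rw [range_gm1]; simp only at hlt ⊢; omega)))
  exact ⟨a, ha⟩

theorem cech_X''_glue (r : T k →+* TL k) (hr : r.comp psi2 = (algebraMap (T k) (TL k)).comp psi1) (c₁ c₂ : T k)
    (h : algebraMap (T k) (TL k) c₁ = r c₂) : ∃ a, psi1 a = c₁ ∧ psi2 a = c₂ := by
  have hk : kap1'' k c₁ = kap2'' k c₂ := by rw [← kapL''_algebraMap, h, kapL''_r r hr]
  have h0 := congrArg (fun z => z.fst) hk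
  have h1 := congrArg (fun z => z.snd.1) hk
  have h2 := congrArg (fun z => z.snd.2) hk
  simp only [kap1'', kap2'', tz_fst, tz_snd1, tz_snd2, mul_zero, add_zero, zero_add] at h0 h1 h2
  obtain ⟨a0, g0⟩ := glue0 h0
  obtain ⟨a1, g1⟩ := glue1 h1
  obtain ⟨a2, g2⟩ := glue1 h2
  have ha : kap0 k (inl a0 + inr (a1, a2)) = kap1'' k c₁ := by
    refine TrivSqZeroExt.ext ?_ (Prod.ext ?_ ?_)
    · simp only [kap0, kap1'', tz_fst, fst_add, fst_inl, fst_inr, add_zero]; exact g0
    · simp only [kap0, kap1'', tz_snd1, snd_add, snd_inl, snd_inr, zero_add, mul_zero, add_zero, mul_one]; exact g1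
    · simp only [kap0, kap1'', tz_snd2, snd_add, snd_inl, snd_inr, zero_add, mul_zero, add_zero, mul_one]; exact g2
  refine ⟨inl a0 + inr (a1, a2), ?_, ?_⟩
  · apply kap1''_injective
    rw [← ha, ← kap1''_psi1]; rfl
  · apply kap2''_injective
    rw [← hk, ← ha, ← kap2''_psi2]; rfl

end Groth.Agent.Refuted.K899
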