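import Groth.Agent.Refuted.K899.Mono

/-!
# The charts of the two-chart counterexample inside the torus

`T = k[X0, X1] ⊕ (k[X0, X1])² ε` (see `K826.Ring`).  All charts embed into `𝕂 = L ⊕ L² ε`, `L = k[x^±1, y^±1]`, with the
basis `e₁, e₂` of the base: `kap0` for the base, `kap1, kap2` for the two charts of `X`, `kap1'', kap2''` for those of `X''`.
-/

set_option linter.unusedSimpArgs false

namespace Groth.Agent.Refuted.K899

open TrivSqZeroExt
open Groth.Agent.Refuted.K826 (P T x₀ x₁ e₁ e₂ phi1 phi2 psi1 psi2)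

universe u

section General

variable {P Q R : Type*} [CommRing P] [CommRing Q] [CommRing R]

/-- the ring map `P ⊕ P²ε → Q ⊕ Q²ε` given by `c` on `P` and by the images `(a, b)`, `(a', b')` of the two basis
vectors -/
noncomputable def tz (c : P →+* Q) (a b a' b' : Q) : TrivSqZeroExt P (P × P) →+* TrivSqZeroExt Q (Q × Q) where
  toFun z := inl (c z.fst) + inr (c z.snd.1 * a + c z.snd.2 * a', c z.snd.1 * b + c z.snd.2 * b')
  map_one' := by ext <;> simp
  map_mul' z w := by ext <;> simp <;> ring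
  map_zero' := by ext <;> simp
  map_add' z w := by ext <;> simp <;> ring

theorem tz_fst (c : P →+* Q) (a b a' b' : Q) (z) : (tz c a b a' b' z).fst = c z.fst := by simp [tz]

theorem tz_snd1 (c : P →+* Q) (a b a' b' : Q) (z) :
    (tz c a b a' b' z).snd.1 = c z.snd.1 * a + c z.snd.2 * a' := by simp [tz]

theorem tz_snd2 (c : P →+* Q) (a b a' b' : Q) (z) :
    (tz c a b a' b' z).snd.2 = c z.snd.1 * b + c z.snd.2 * b' := by simp [tz]

theorem tz_inl (c : P →+* Q) (a b a' b' : Q) (p : P) : tz c a b a' b' (inl p) = inl (c p) := by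
  ext <;> simp [tz]

theorem tz_inr (c : P →+* Q) (a b a' b' : Q) (p q : P) :
    tz c a b a' b' (inr (p, q)) = inr (c p * a + c q * a', c p * b + c q * b') := by
  ext <;> simp [tz]

theorem inr_eq (p q : P) : (inr (p, q) : TrivSqZeroExt P (P × P)) = inl p * inr (1, 0) + inl q * inr (0, 1) := by
  ext <;> simp

theorem eq_add (z : TrivSqZeroExt P (P × P)) :
    z = inl z.fst + (inl z.snd.1 * inr (1, 0) + inl z.snd.2 * inr (0, 1)) := by
  rw [← inr_eq]; ext <;> simp

/-- a ring map out of `P ⊕ P²ε` -/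
noncomputable def ev (g : P →+* R) (m n : R) (h1 : m * m = 0) (h2 : m * n = 0) (h3 : n * n = 0) :
    TrivSqZeroExt P (P × P) →+* R where
  toFun z := g z.fst + g z.snd.1 * m + g z.snd.2 * n
  map_one' := by simp
  map_mul' z w := by
    simp only [fst_mul, snd_mul, Prod.fst_add, Prod.snd_add, Prod.smul_fst, Prod.smul_snd, smul_eq_mul, map_mul, map_add,
      MulOpposite.smul_eq_mul_unop, MulOpposite.unop_op]
    linear_combination (-(g z.snd.1 * g w.snd.1)) * h1 + (-(g z.snd.1 * g w.snd.2 + g z.snd.2 * g w.snd.1)) * h2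
      + (-(g z.snd.2 * g w.snd.2)) * h3
  map_zero' := by simp
  map_add' z w := by simp; ring

theorem ev_inl (g : P →+* R) (m n : R) (h1 h2 h3) (p : P) : ev g m n h1 h2 h3 (inl p) = g p := by simp [ev]
theorem ev_inr (g : P →+* R) (m n : R) (h1 h2 h3) (p q : P) :
    ev g m n h1 h2 h3 (inr (p, q)) = g p * m + g q * n := by simp [ev]

end General

variable {k : Type u} [Field k]

theorem T_hom_ext {C : Type*} [CommRing C] {f g : T k →+* C}
    (hC : ∀ r : k, f (inl (MvPolynomial.C r)) = g (inl (MvPolynomial.C r)))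
    (h0 : f (inl (MvPolynomial.X 0)) = g (inl (MvPolynomial.X 0)))
    (h1 : f (inl (MvPolynomial.X 1)) = g (inl (MvPolynomial.X 1)))
    (ha : f (inr (1, 0)) = g (inr (1, 0))) (hb : f (inr (0, 1)) = g (inr (0, 1))) : f = g := by
  have hP : f.comp (inlHom (P k) (P k × P k)) = g.comp (inlHom (P k) (P k × P k)) := by
    apply MvPolynomial.ringHom_ext
    · exact hC
    · intro i
      fin_cases i
      · exact h0
      · exact h1
  have hP' : ∀ p : P k, f (inl p) = g (inl p) := fun p => RingHom.congr_fun hP p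
  ext z
  rw [eq_add z]
  simp only [map_add, map_mul, hP', ha, hb]

section Values

theorem mk_inl (p : Fin 2 → P k) (m n : P k × P k) (q : P k) : K826.mk p m n (inl q) = inl (MvPolynomial.aeval p q) := by
  simp [K826.mk]
theorem mk_inr (p : Fin 2 → P k) (m n : P k × P k) (q r : P k) :
    K826.mk p m n (inr (q, r)) = inr (MvPolynomial.aeval p q • m + MvPolynomial.aeval p r • n) := by
  simp [K826.mk]

theorem phi1_C (r : k) : phi1 (inl (MvPolynomial.C r)) = inl (MvPolynomial.C r) := by simp [phi1, mk_inl]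
theorem phi1_0 : phi1 (k := k) (inl (MvPolynomial.X 0)) = inl (MvPolynomial.X 0) := by simp [phi1, mk_inl]
theorem phi1_1 : phi1 (k := k) (inl (MvPolynomial.X 1)) = inl (MvPolynomial.X 0 * MvPolynomial.X 1) := by
  simp [phi1, mk_inl]
theorem phi1_a : phi1 (k := k) (inr (1, 0)) = inr (MvPolynomial.X 0, -MvPolynomial.X 1) := by simp [phi1, mk_inr]
theorem phi1_b : phi1 (k := k) (inr (0, 1)) = inr (0, 1) := by simp [phi1, mk_inr]

theorem phi2_C (r : k) : phi2 (inl (MvPolynomial.C r)) = inl (MvPolynomial.C r) := by simp [phi2, mk_inl]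
theorem phi2_0 : phi2 (k := k) (inl (MvPolynomial.X 0)) = inl (MvPolynomial.X 0 * MvPolynomial.X 1) := by
  simp [phi2, mk_inl]
theorem phi2_1 : phi2 (k := k) (inl (MvPolynomial.X 1)) = inl (MvPolynomial.X 0) := by simp [phi2, mk_inl]
theorem phi2_a : phi2 (k := k) (inr (1, 0)) = inr (0, 1) := by simp [phi2, mk_inr]
theorem phi2_b : phi2 (k := k) (inr (0, 1)) = inr (MvPolynomial.X 0, -MvPolynomial.X 1) := by simp [phi2, mk_inr]

theorem psi1_C (r : k) : psi1 (inl (MvPolynomial.C r)) = inl (MvPolynomial.C r) := by simp [psi1, mk_inl]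
theorem psi1_0 : psi1 (k := k) (inl (MvPolynomial.X 0)) = inl (MvPolynomial.X 0) := by simp [psi1, mk_inl]
theorem psi1_1 : psi1 (k := k) (inl (MvPolynomial.X 1)) = inl (MvPolynomial.X 0 * MvPolynomial.X 1) := by
  simp [psi1, mk_inl]
theorem psi1_a : psi1 (k := k) (inr (1, 0)) = inr (MvPolynomial.X 0, 0) := by simp [psi1, mk_inr]
theorem psi1_b : psi1 (k := k) (inr (0, 1)) = inr (0, MvPolynomial.X 0) := by simp [psi1, mk_inr]

theorem psi2_C (r : k) : psi2 (inl (MvPolynomial.C r)) = inl (MvPolynomial.C r) := by simp [psi2, mk_inl]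
theorem psi2_0 : psi2 (k := k) (inl (MvPolynomial.X 0)) = inl (MvPolynomial.X 0 * MvPolynomial.X 1) := by
  simp [psi2, mk_inl]
theorem psi2_1 : psi2 (k := k) (inl (MvPolynomial.X 1)) = inl (MvPolynomial.X 0) := by simp [psi2, mk_inl]
theorem psi2_a : psi2 (k := k) (inr (1, 0)) = inr (0, MvPolynomial.X 0) := by simp [psi2, mk_inr]
theorem psi2_b : psi2 (k := k) (inr (0, 1)) = inr (MvPolynomial.X 0, 0) := by simp [psi2, mk_inr]

end Values

variable (k) in
/-- base → torus -/
noncomputable def kap0 : T k →+* TrivSqZeroExt (L k) (L k × L k) := tz (cm (1, 0) (0, 1)).toRingHom 1 0 0 1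
variable (k) in
/-- first chart of `X` → torus -/
noncomputable def kap1 : T k →+* TrivSqZeroExt (L k) (L k × L k) :=
  tz (cm (1, 0) (-1, 1)).toRingHom (mon (-1) 0) (mon (-2) 1) 0 1
variable (k) in
/-- second chart of `X` → torus -/
noncomputable def kap2 : T k →+* TrivSqZeroExt (L k) (L k × L k) :=
  tz (cm (0, 1) (1, -1)).toRingHom (mon 1 (-2)) (mon 0 (-1)) 1 0
variable (k) in
/-- first chart of `X''` → torus -/
noncomputable def kap1'' : T k →+* TrivSqZeroExt (L k) (L k × L k) :=
  tz (cm (1, 0) (-1, 1)).toRingHom (mon (-1) 0) 0 0 (mon (-1) 0)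
variable (k) in
/-- second chart of `X''` → torus -/
noncomputable def kap2'' : T k →+* TrivSqZeroExt (L k) (L k × L k) :=
  tz (cm (0, 1) (1, -1)).toRingHom 0 (mon 0 (-1)) (mon 0 (-1)) 0

theorem cm_C (u v : ℤ × ℤ) (r : k) : (cm u v).toRingHom (MvPolynomial.C r) = algebraMap k (L k) r :=
  (cm u v).commutes r

theorem cm_X0' (u v : ℤ × ℤ) : (cm (k := k) u v).toRingHom (MvPolynomial.X 0) = mon u.1 u.2 := cm_X0 u v
theorem cm_X1' (u v : ℤ × ℤ) : (cm (k := k) u v).toRingHom (MvPolynomial.X 1) = mon v.1 v.2 := cm_X1 u v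

theorem kap1_phi1 : (kap1 k).comp phi1 = kap0 k := by
  apply T_hom_ext
  · intro r; simp only [kap1, kap0, RingHom.comp_apply, tz_inl, phi1_C, cm_C]
  · simp only [kap1, kap0, RingHom.comp_apply, tz_inl, phi1_0, cm_X0']
  · simp only [kap1, kap0, RingHom.comp_apply, tz_inl, phi1_1, map_mul, cm_X0', cm_X1', mon_mul]; norm_num
  · simp only [kap1, phi1_a, kap0, RingHom.comp_apply, tz_inr, map_one, map_zero, map_neg, cm_X0', cm_X1', mon_mul,
      zero_mul, one_mul, mul_zero, mul_one, add_zero, zero_add, neg_mul]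
    norm_num [mon_zero]
  · simp only [kap1, phi1_b, kap0, RingHom.comp_apply, tz_inr, map_one, map_zero, map_neg, cm_X0', cm_X1', mon_mul,
      zero_mul, one_mul, mul_zero, mul_one, add_zero, zero_add, neg_mul]

theorem kap2_phi2 : (kap2 k).comp phi2 = kap0 k := by
  apply T_hom_ext
  · intro r; simp only [kap2, kap0, RingHom.comp_apply, tz_inl, phi2_C, cm_C]
  · simp only [kap2, kap0, RingHom.comp_apply, tz_inl, phi2_0, map_mul, cm_X0', cm_X1', mon_mul]; norm_num
  · simp only [kap2, kap0, RingHom.comp_apply, tz_inl, phi2_1, cm_X0', cm_X1']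
  · simp only [kap2, phi2_a, kap0, RingHom.comp_apply, tz_inr, map_one, map_zero, map_neg, cm_X0', cm_X1', mon_mul,
      zero_mul, one_mul, mul_zero, mul_one, add_zero, zero_add, neg_mul]
  · simp only [kap2, phi2_b, kap0, RingHom.comp_apply, tz_inr, map_one, map_zero, map_neg, cm_X0', cm_X1', mon_mul,
      zero_mul, one_mul, mul_zero, mul_one, add_zero, zero_add, neg_mul]
    norm_num [mon_zero]

theorem kap1''_psi1 : (kap1'' k).comp psi1 = kap0 k := by
  apply T_hom_ext
  · intro r; simp only [kap1'', kap0, RingHom.comp_apply, tz_inl, psi1_C, cm_C]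
  · simp only [kap1'', kap0, RingHom.comp_apply, tz_inl, psi1_0, cm_X0']
  · simp only [kap1'', kap0, RingHom.comp_apply, tz_inl, psi1_1, map_mul, cm_X0', cm_X1', mon_mul]; norm_num
  · simp only [kap1'', psi1_a, kap0, RingHom.comp_apply, tz_inr, map_one, map_zero, map_neg, cm_X0', cm_X1', mon_mul,
      zero_mul, one_mul, mul_zero, mul_one, add_zero, zero_add, neg_mul]
    norm_num [mon_zero]
  · simp only [kap1'', psi1_b, kap0, RingHom.comp_apply, tz_inr, map_one, map_zero, map_neg, cm_X0', cm_X1', mon_mul,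
      zero_mul, one_mul, mul_zero, mul_one, add_zero, zero_add, neg_mul]
    norm_num [mon_zero]

theorem kap2''_psi2 : (kap2'' k).comp psi2 = kap0 k := by
  apply T_hom_ext
  · intro r; simp only [kap2'', kap0, RingHom.comp_apply, tz_inl, psi2_C, cm_C]
  · simp only [kap2'', kap0, RingHom.comp_apply, tz_inl, psi2_0, map_mul, cm_X0', cm_X1', mon_mul]; norm_num
  · simp only [kap2'', kap0, RingHom.comp_apply, tz_inl, psi2_1, cm_X0', cm_X1']
  · simp only [kap2'', psi2_a, kap0, RingHom.comp_apply, tz_inr, map_one, map_zero, map_neg, cm_X0', cm_X1', mon_mul,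
      zero_mul, one_mul, mul_zero, mul_one, add_zero, zero_add, neg_mul]
    norm_num [mon_zero]
  · simp only [kap2'', psi2_b, kap0, RingHom.comp_apply, tz_inr, map_one, map_zero, map_neg, cm_X0', cm_X1', mon_mul,
      zero_mul, one_mul, mul_zero, mul_one, add_zero, zero_add, neg_mul]
    norm_num [mon_zero]

/-- ring maps out of the second chart of `X` are determined by their restriction to the base if `y` becomes a
non-zero-divisor -/
theorem eq_of_comp_phi2 {C : Type*} [CommRing C] {f g : T k →+* C} (h : f.comp phi2 = g.comp phi2)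
    (hx : IsRegular (f (inl (MvPolynomial.X 0)))) : f = g := by
  have hc := fun z => RingHom.congr_fun h z
  simp only [RingHom.comp_apply] at hc
  have h0 : f (inl (MvPolynomial.X 0)) = g (inl (MvPolynomial.X 0)) := by
    have := hc (inl (MvPolynomial.X 1)); rwa [phi2_1] at this
  have h1 : f (inl (MvPolynomial.X 1)) = g (inl (MvPolynomial.X 1)) := by
    have := hc (inl (MvPolynomial.X 0)); rw [phi2_0, inl_mul, map_mul, map_mul, ← h0] at this
    exact hx.left this
  have hb : f (inr (0, 1)) = g (inr (0, 1)) := by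
    have := hc (inr (1, 0)); rwa [phi2_a] at this
  refine T_hom_ext (fun r => ?_) h0 h1 ?_ hb
  · have := hc (inl (MvPolynomial.C r)); rwa [phi2_C] at this
  · have := hc (inr (0, 1)); rw [phi2_b, inr_eq] at this
    rw [map_add, map_add, map_mul, map_mul, map_mul, map_mul, hb, ← h0] at this
    have e : f (inl (-MvPolynomial.X 1)) = g (inl (-MvPolynomial.X 1)) := by
      rw [inl_neg, map_neg, map_neg, h1]
    rw [e] at this
    exact hx.left (add_right_cancel this)

/-- the same for `X''` -/
theorem eq_of_comp_psi2 {C : Type*} [CommRing C] {f g : T k →+* C} (h : f.comp psi2 = g.comp psi2)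
    (hx : IsRegular (f (inl (MvPolynomial.X 0)))) : f = g := by
  have hc := fun z => RingHom.congr_fun h z
  simp only [RingHom.comp_apply] at hc
  have h0 : f (inl (MvPolynomial.X 0)) = g (inl (MvPolynomial.X 0)) := by
    have := hc (inl (MvPolynomial.X 1)); rwa [psi2_1] at this
  have h1 : f (inl (MvPolynomial.X 1)) = g (inl (MvPolynomial.X 1)) := by
    have := hc (inl (MvPolynomial.X 0)); rw [psi2_0, inl_mul, map_mul, map_mul, ← h0] at this
    exact hx.left this
  refine T_hom_ext (fun r => ?_) h0 h1 ?_ ?_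
  · have := hc (inl (MvPolynomial.C r)); rwa [psi2_C] at this
  · have := hc (inr (0, 1))
    rw [psi2_b, show (inr (MvPolynomial.X 0, 0) : T k) = inl (MvPolynomial.X 0) * inr (1, 0) by
      rw [inr_eq]; simp, map_mul, map_mul, ← h0] at this
    exact hx.left this
  · have := hc (inr (1, 0))
    rw [psi2_a, show (inr (0, MvPolynomial.X 0) : T k) = inl (MvPolynomial.X 0) * inr (0, 1) by
      rw [inr_eq]; simp, map_mul, map_mul, ← h0] at this
    exact hx.left this

end Groth.Agent.Refuted.K899
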