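import Groth.Agent.Refuted.K826.Ring
import Mathlib.Algebra.MonoidAlgebra.Basic
import Mathlib.Algebra.MvPolynomial.Basic
import Mathlib.Algebra.MvPolynomial.Eval
import Mathlib.Algebra.TrivSqZeroExt.Basic
import Mathlib.RingTheory.Localization.Away.Basic
import Mathlib.Tactic

/-!
# Monomial bookkeeping for the two-chart model

`P = k[X0, X1]`, `L = k[x^±1, y^±1]` (as `AddMonoidAlgebra k (ℤ × ℤ)`), monomial maps `cm u v : P → L`
(`X0 ↦` the monomial `u`, `X1 ↦` the monomial `v`), their ranges in terms of supports.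
-/

namespace Groth.Agent.Refuted.K899

universe u

open Groth.Agent.Refuted.K826 (P)

variable (k : Type u) [Field k]

/-- `k[x, y, 1/x, 1/y]` -/
abbrev L := AddMonoidAlgebra k (ℤ × ℤ)

variable {k}

/-- the monomial `x^a y^b` -/
noncomputable def mon (a b : ℤ) : L k := AddMonoidAlgebra.single (a, b) 1

theorem mon_mul (a b c d : ℤ) : mon (k := k) a b * mon c d = mon (a + c) (b + d) := by
  rw [mon, mon, mon, AddMonoidAlgebra.single_mul_single]; simp

theorem mon_zero : mon (k := k) 0 0 = 1 := rfl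

theorem mon_mul_inv (a b : ℤ) : mon (k := k) a b * mon (-a) (-b) = 1 := by
  rw [mon_mul, ← mon_zero]; congr 1 <;> ring

theorem isUnit_mon (a b : ℤ) : IsUnit (mon (k := k) a b) := IsUnit.of_mul_eq_one _ (mon_mul_inv a b)

theorem coeff_mon_mul (a b : ℤ) (z : L k) (c d : ℤ) :
    (mon a b * z).coeff (c, d) = z.coeff (c - a, d - b) := by
  have h := AddMonoidAlgebra.coeff_single_mul_apply (x := z) (1 : k) (a, b) (c, d)
  rw [mon, h, one_mul]
  congr 1
  ext <;> simp <;> ring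

/-- the additive map `ℕ² → ℤ²` with `(1,0) ↦ u`, `(0,1) ↦ v` -/
def gm (u v : ℤ × ℤ) : (Fin 2 →₀ ℕ) →+ ℤ × ℤ where
  toFun d := d 0 • u + d 1 • v
  map_zero' := by simp
  map_add' a b := by simp only [Finsupp.add_apply, add_smul]; abel

theorem gm_apply (u v : ℤ × ℤ) (d : Fin 2 →₀ ℕ) :
    gm u v d = ((d 0 : ℤ) * u.1 + (d 1 : ℤ) * v.1, (d 0 : ℤ) * u.2 + (d 1 : ℤ) * v.2) := by
  ext <;> simp [gm]

/-- determinant criterion for injectivity -/
theorem gm_injective {u v : ℤ × ℤ} (h : u.1 * v.2 - u.2 * v.1 ≠ 0) : Function.Injective (gm u v) := by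
  intro a b hab
  rw [gm_apply, gm_apply, Prod.mk.injEq] at hab
  obtain ⟨h1, h2⟩ := hab
  have e0 : ((a 0 : ℤ) - b 0) * (u.1 * v.2 - u.2 * v.1) = 0 := by linear_combination v.2 * h1 - v.1 * h2
  have e1 : ((a 1 : ℤ) - b 1) * (u.1 * v.2 - u.2 * v.1) = 0 := by linear_combination u.1 * h2 - u.2 * h1
  have f0 := (mul_eq_zero.mp e0).resolve_right h
  have f1 := (mul_eq_zero.mp e1).resolve_right h
  ext i
  fin_cases i
  · simp only [Fin.zero_eta]; omega
  · simp only [Fin.mk_one]; omega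

/-- the monomial map `P → L`, `X0 ↦ u`, `X1 ↦ v` -/
noncomputable def cm (u v : ℤ × ℤ) : P k →ₐ[k] L k := AddMonoidAlgebra.mapDomainAlgHom k k (gm u v)

theorem cm_X0 (u v : ℤ × ℤ) : cm (k := k) u v (MvPolynomial.X 0) = mon u.1 u.2 := by
  have : (MvPolynomial.X 0 : P k) = AddMonoidAlgebra.single (Finsupp.single 0 1) 1 := rfl
  rw [this, cm]
  change AddMonoidAlgebra.mapDomain (gm u v) _ = _
  rw [AddMonoidAlgebra.mapDomain_single, mon]
  congr 1
  rw [gm_apply]; simp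

theorem cm_X1 (u v : ℤ × ℤ) : cm (k := k) u v (MvPolynomial.X 1) = mon v.1 v.2 := by
  have : (MvPolynomial.X 1 : P k) = AddMonoidAlgebra.single (Finsupp.single 1 1) 1 := rfl
  rw [this, cm]
  change AddMonoidAlgebra.mapDomain (gm u v) _ = _
  rw [AddMonoidAlgebra.mapDomain_single, mon]
  congr 1
  rw [gm_apply]; simp

theorem cm_injective {u v : ℤ × ℤ} (h : u.1 * v.2 - u.2 * v.1 ≠ 0) : Function.Injective (cm (k := k) u v) :=
  AddMonoidAlgebra.mapDomain_injective (gm_injective h)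

/-- outside the range of `gm` the coefficients of `cm p` vanish -/
theorem coeff_cm_eq_zero {u v : ℤ × ℤ} (p : P k) {m : ℤ × ℤ} (hm : m ∉ Set.range (gm u v)) :
    (cm u v p).coeff m = 0 := by
  change (AddMonoidAlgebra.mapDomain (gm u v) p).coeff m = 0
  change (Finsupp.mapDomain (gm u v) (AddMonoidAlgebra.coeff p)) m = 0
  exact Finsupp.mapDomain_of_notMem_range _ _ hm

/-- everything supported in the range of `gm` comes from `P` -/
theorem exists_cm_eq {u v : ℤ × ℤ} (h : u.1 * v.2 - u.2 * v.1 ≠ 0) (z : L k)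
    (hz : ∀ m, z.coeff m ≠ 0 → m ∈ Set.range (gm u v)) : ∃ p : P k, cm u v p = z := by
  refine ⟨AddMonoidAlgebra.comapDomain (gm u v) (gm_injective h) z, ?_⟩
  change AddMonoidAlgebra.mapDomain (gm u v) _ = _
  exact AddMonoidAlgebra.mapDomain_comapDomain
    (fun m hm => hz m (Finsupp.mem_support_iff.mp hm)) _

/-- two coordinates on the three monomial cones -/
theorem range_gm0 (m : ℤ × ℤ) : m ∈ Set.range (gm (1, 0) (0, 1)) ↔ 0 ≤ m.1 ∧ 0 ≤ m.2 := by
  constructor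
  · rintro ⟨d, rfl⟩; rw [gm_apply]; constructor <;> simp
  · rintro ⟨h1, h2⟩
    refine ⟨Finsupp.single 0 m.1.toNat + Finsupp.single 1 m.2.toNat, ?_⟩
    rw [gm_apply]; ext <;> simp [h1, h2]

theorem range_gm1 (m : ℤ × ℤ) : m ∈ Set.range (gm (1, 0) (-1, 1)) ↔ 0 ≤ m.2 ∧ 0 ≤ m.1 + m.2 := by
  constructor
  · rintro ⟨d, rfl⟩; rw [gm_apply]; constructor <;> simp
  · rintro ⟨h1, h2⟩
    refine ⟨Finsupp.single 0 (m.1 + m.2).toNat + Finsupp.single 1 m.2.toNat, ?_⟩
    rw [gm_apply]; ext <;> simp [h1, h2]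

theorem range_gm2 (m : ℤ × ℤ) : m ∈ Set.range (gm (0, 1) (1, -1)) ↔ 0 ≤ m.1 ∧ 0 ≤ m.1 + m.2 := by
  constructor
  · rintro ⟨d, rfl⟩; rw [gm_apply]; constructor <;> simp
  · rintro ⟨h1, h2⟩
    refine ⟨Finsupp.single 0 (m.1 + m.2).toNat + Finsupp.single 1 m.1.toNat, ?_⟩
    rw [gm_apply]; ext <;> simp [h1, h2]

end Groth.Agent.Refuted.K899
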